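import Groth.Agent.Lib.AlgSpace.Points
import Groth.Prelude.Def_AlgSpOX3
import Mathlib.AlgebraicGeometry.Sites.EtalePoint
import Mathlib.FieldTheory.IsAlgClosed.AlgebraicClosure

/-!
# Lifting geometric points to the small étale site
-/

universe u

set_option backward.isDefEq.respectTransparency false

open CategoryTheory CategoryTheory.Limits AlgebraicGeometry Opposite

namespace Groth.Agent.AlgSpEt

open AlgSp Groth.Agent.AlgSpDecent Groth.Agent.AlgSpace

variable {S : Scheme.{u}} {X : Sp S}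

/-- The point of `U` under a lift. -/
noncomputable def liftPt (p : FieldPt X) {E : EtOver X} (l : (FieldPt.liftsTo p).obj E) :
    ↥E.obj.left.left :=
  l.1.left (IsLocalRing.closedPoint p.K)

lemma liftPt_map (p : FieldPt X) {E E' : EtOver X} (g : E ⟶ E') (l : (FieldPt.liftsTo p).obj E) :
    liftPt p ((FieldPt.liftsTo p).map g l) = g.hom.left.left (liftPt p l) := rfl

lemma ofPt_liftPt (p : FieldPt X) {E : EtOver X} (l : (FieldPt.liftsTo p).obj E) :
    Points.ofPt E.obj.hom (liftPt p l) = Points.mk p := by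
  let t : ↥p.pt.left := IsLocalRing.closedPoint p.K
  show Points.ofPt E.obj.hom (l.1.left t) = Points.mk p
  rw [← ofPt_map_comp l.1 E.obj.hom t, l.2]
  exact Points.ofPt_toHom p t

lemma subsingleton_pt (p : FieldPt X) : Subsingleton ↥p.pt.left :=
  inferInstanceAs (Subsingleton (PrimeSpectrum p.K))

/-- A geometric point lifts through an étale map of charts. -/
theorem exists_lift_map (p : FieldPt X) (hp : p.IsGeometric) {E E' : EtOver X} (g : E' ⟶ E)
    (l : (FieldPt.liftsTo p).obj E) (v : ↥E'.obj.left.left) (hv : g.hom.left.left v = liftPt p l) :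
    ∃ l' : (FieldPt.liftsTo p).obj E', (FieldPt.liftsTo p).map g l' = l ∧ liftPt p l' = v := by
  have : IsAlgClosed p.K := hp
  have := subsingleton_pt p
  have : Etale g.hom.left.left := EtOver.etale_left g
  obtain ⟨m, hm, hm'⟩ := Scheme.exists_fac_of_etale_of_isSepClosed g.hom.left.left
    (show Spec (CommRingCat.of p.K) ⟶ E.obj.left.left from l.1.left) v
    (hv.trans (congrArg l.1.left (Subsingleton.elim _ _)))
  let m' : p.pt ⟶ E'.obj.left := Over.homMk m (by
    rw [← Over.w g.hom.left, reassoc_of% hm]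
    exact Over.w l.1)
  have hcomp : m' ≫ g.hom.left = l.1 := by ext1; exact hm
  have hlift : (yon S).map m' ≫ E'.obj.hom = p.toHom := by
    rw [← EtOver.w g, ← Functor.map_comp_assoc, hcomp]; exact l.2
  refine ⟨⟨m', hlift⟩, Subtype.ext hcomp, ?_⟩
  exact (congrArg m (Subsingleton.elim (α := PrimeSpectrum p.K) _ _)).trans hm'

/-- A geometric point lifts to every chart through every point over it. -/
theorem exists_lift_of_point (p : FieldPt X) (hp : p.IsGeometric) (E : EtOver X)
    (v : ↥E.obj.left.left) (hv : Points.ofPt E.obj.hom v = Points.mk p) :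
    ∃ l : (FieldPt.liftsTo p).obj E, liftPt p l = v := by
  have : IsAlgClosed p.K := hp
  have := subsingleton_pt p
  have hrep := E.property.1
  have sq := hrep.isPullback' p.toHom
  have : Etale (hrep.snd p.toHom).left := E.property.2 p.toHom _ _ (hrep.isPullback p.toHom)
  obtain ⟨w, hw₁, hw₂⟩ := exists_pt_of_isPullback sq (x := Points.ofScheme E.obj.left v)
    (t := IsLocalRing.closedPoint p.K) (by
      rw [← Points.ofPt_eq_map_ofScheme, hv]; exact (Points.ofPt_toHom p _).symm)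
  obtain ⟨m, hm, hm'⟩ := Scheme.exists_fac_of_etale_of_isSepClosed (hrep.snd p.toHom).left
    (show Spec (CommRingCat.of p.K) ⟶ p.pt.left from 𝟙 _) w (Subsingleton.elim _ _)
  let s : p.pt ⟶ hrep.pullback p.toHom := Over.homMk m (by
    rw [← Over.w (hrep.snd p.toHom), reassoc_of% hm])
  have hs : s ≫ hrep.snd p.toHom = 𝟙 _ := by ext1; exact hm
  refine ⟨⟨s ≫ hrep.fst' p.toHom, ?_⟩, ?_⟩
  · rw [Functor.map_comp, Category.assoc, sq.w, ← Functor.map_comp_assoc, hs,
      CategoryTheory.Functor.map_id, Category.id_comp]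
  · rw [ofPt_map_eq] at hw₁
    exact ((congrArg (hrep.fst' p.toHom).left
      ((congrArg m (Subsingleton.elim (α := PrimeSpectrum p.K) _ _)).trans hm')).trans
        ((Points.schemeEquiv E.obj.left).injective hw₁))

/-- Some chart carries a lift. -/
theorem exists_chart_lift (hX : IsAlgSpace X) (p : FieldPt X) (hp : p.IsGeometric) :
    ∃ E : EtOver X, Nonempty ((FieldPt.liftsTo p).obj E) := by
  obtain ⟨U, a, hae, has⟩ := hX.atlas
  obtain ⟨v, hv⟩ := surjective_ofPt has (Points.mk p)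
  obtain ⟨l, -⟩ := exists_lift_of_point p hp (EtOver.mk a hae) v hv
  exact ⟨_, ⟨l⟩⟩

/-- Lifts of `p` to two objects give a lift to their product. -/
theorem exists_lift_prod (p : FieldPt X) {E₁ E₂ : EtOver X} (l₁ : (FieldPt.liftsTo p).obj E₁)
    (l₂ : (FieldPt.liftsTo p).obj E₂) :
    ∃ l : (FieldPt.liftsTo p).obj (EtOver.prodObj E₁ E₂),
      (FieldPt.liftsTo p).map (EtOver.prodFst E₁ E₂) l = l₁ ∧
      (FieldPt.liftsTo p).map (EtOver.prodSnd E₁ E₂) l = l₂ := by
  let m := E₂.property.1.lift' l₂.1 l₁.1 (l₂.2.trans l₁.2.symm)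
  have h₁ : m ≫ E₂.property.1.snd E₁.obj.hom = l₁.1 := Functor.relativelyRepresentable.lift'_snd _ _ _ _
  have h₂ : m ≫ E₂.property.1.fst' E₁.obj.hom = l₂.1 := Functor.relativelyRepresentable.lift'_fst _ _ _ _
  refine ⟨⟨m, ?_⟩, Subtype.ext h₁, Subtype.ext h₂⟩
  change (yon S).map m ≫ (yon S).map (E₂.property.1.snd E₁.obj.hom) ≫ E₁.obj.hom = p.toHom
  rw [← Functor.map_comp_assoc, h₁]
  exact l₁.2

/-- Two morphisms agreeing on a lift are equalised by a morphism through which it lifts. -/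
theorem exists_lift_equalizer (p : FieldPt X) {E E' : EtOver X} (f g : E ⟶ E')
    (l : (FieldPt.liftsTo p).obj E)
    (h : (FieldPt.liftsTo p).map f l = (FieldPt.liftsTo p).map g l) :
    ∃ (E'' : EtOver X) (k : E'' ⟶ E) (l'' : (FieldPt.liftsTo p).obj E''),
      k ≫ f = k ≫ g ∧ (FieldPt.liftsTo p).map k l'' = l := by
  let P := EtOver.prodIsLimit E' E'
  let fg : E ⟶ EtOver.prodObj E' E' := P.lift (BinaryFan.mk f g)
  let δ : E' ⟶ EtOver.prodObj E' E' := P.lift (BinaryFan.mk (𝟙 _) (𝟙 _))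
  have hf : fg ≫ EtOver.prodFst E' E' = f := P.fac (BinaryFan.mk f g) ⟨.left⟩
  have hg : fg ≫ EtOver.prodSnd E' E' = g := P.fac (BinaryFan.mk f g) ⟨.right⟩
  have hδ₁ : δ ≫ EtOver.prodFst E' E' = 𝟙 _ := P.fac (BinaryFan.mk (𝟙 _) (𝟙 _)) ⟨.left⟩
  have hδ₂ : δ ≫ EtOver.prodSnd E' E' = 𝟙 _ := P.fac (BinaryFan.mk (𝟙 _) (𝟙 _)) ⟨.right⟩
  have hagree : ((FieldPt.liftsTo p).map fg l).1 = ((FieldPt.liftsTo p).map f l).1 ≫ δ.hom.left := by
    refine E'.property.1.hom_ext' ?_ ?_
    · have e₁ : fg.hom.left ≫ E'.property.1.fst' E'.obj.hom = g.hom.left :=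
        congrArg (fun m => m.hom.left) hg
      have e₂ : δ.hom.left ≫ E'.property.1.fst' E'.obj.hom = 𝟙 _ :=
        congrArg (fun m => m.hom.left) hδ₂
      simp only [FieldPt.liftsTo_map_coe, Category.assoc]
      rw [e₁, e₂, Category.comp_id]
      exact (congrArg Subtype.val h).symm
    · have e₁ : fg.hom.left ≫ E'.property.1.snd E'.obj.hom = f.hom.left :=
        congrArg (fun m => m.hom.left) hf
      have e₂ : δ.hom.left ≫ E'.property.1.snd E'.obj.hom = 𝟙 _ :=
        congrArg (fun m => m.hom.left) hδ₁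
      simp only [FieldPt.liftsTo_map_coe, Category.assoc]
      rw [e₁, e₂, Category.comp_id]
  let k := EtOver.pullbackFst fg δ
  let m : p.pt ⟶ (EtOver.pullbackObj fg δ).obj.left :=
    pullback.lift l.1 ((FieldPt.liftsTo p).map f l).1 hagree
  refine ⟨_, k, ⟨m, ?_⟩, ?_, Subtype.ext (pullback.lift_fst _ _ _)⟩
  · change (yon S).map m ≫ (yon S).map (pullback.fst fg.hom.left δ.hom.left) ≫ E.obj.hom = p.toHom
    rw [← Functor.map_comp_assoc, pullback.lift_fst]
    exact l.2
  · have hc : k ≫ fg = EtOver.pullbackSnd fg δ ≫ δ := EtOver.pullback_condition fg δ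
    have h1 : k ≫ f = EtOver.pullbackSnd fg δ := by
      rw [← hf, ← Category.assoc, hc, Category.assoc, hδ₁, Category.comp_id]
    have h2 : k ≫ g = EtOver.pullbackSnd fg δ := by
      rw [← hg, ← Category.assoc, hc, Category.assoc, hδ₂, Category.comp_id]
    rw [h1, h2]

/-- The neighbourhoods of a geometric point form a cofiltered category. -/
theorem isCofiltered_etNbhd (hX : IsAlgSpace X) (p : FieldPt X) (hp : p.IsGeometric) :
    IsCofiltered (EtNbhd p) where
  cone_objs N N' := by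
    obtain ⟨l, h₁, h₂⟩ := exists_lift_prod p N.2 N'.2
    exact ⟨⟨_, l⟩, ⟨EtOver.prodFst N.1 N'.1, h₁⟩, ⟨EtOver.prodSnd N.1 N'.1, h₂⟩, trivial⟩
  cone_maps {N N'} f g := by
    obtain ⟨E, k, l, hk, hl⟩ := exists_lift_equalizer p f.1 g.1 N.2 (f.2.trans g.2.symm)
    exact ⟨⟨E, l⟩, ⟨k, hl⟩, Subtype.ext hk⟩
  nonempty := by
    obtain ⟨E, ⟨l⟩⟩ := exists_chart_lift hX p hp
    exact ⟨⟨E, l⟩⟩

/-- Covering families are jointly surjective on lifts. -/
theorem exists_lift_of_cover (p : FieldPt X) (hp : p.IsGeometric) {E : EtOver X}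
    (l : (FieldPt.liftsTo p).obj E) {ι : Type*} (Ui : ι → EtOver X) (g : ∀ i, Ui i ⟶ E)
    (hcov : Presieve.ofArrows Ui g ∈ etPre X E) :
    ∃ (i : ι) (ui : (FieldPt.liftsTo p).obj (Ui i)), (FieldPt.liftsTo p).map (g i) ui = l := by
  obtain ⟨i, v, hv⟩ := (ofArrows_mem_etPre_iff Ui g).1 hcov (liftPt p l)
  obtain ⟨l', h, -⟩ := exists_lift_map p hp (g i) l v hv
  exact ⟨i, l', h⟩

/-- There is a geometric point over every point of a chart. -/
theorem exists_geometric_lift (E : EtOver X) (v : ↥E.obj.left.left) :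
    ∃ (p : FieldPt X) (_ : p.IsGeometric) (l : (FieldPt.liftsTo p).obj E), liftPt p l = v := by
  let Ω := AlgebraicClosure (E.obj.left.left.residueField v)
  let a : Spec (CommRingCat.of Ω) ⟶ E.obj.left.left :=
    Spec.map (CommRingCat.ofHom (algebraMap (E.obj.left.left.residueField v) Ω)) ≫
      E.obj.left.left.fromSpecResidueField v
  let T : Over S := Over.mk (a ≫ E.obj.left.hom)
  let p : FieldPt X :=
    { K := Ω, str := a ≫ E.obj.left.hom
      val := (J S).uliftYonedaEquiv ((yon S).map (Over.homMk a rfl : T ⟶ E.obj.left) ≫ E.obj.hom) }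
  refine ⟨p, (inferInstanceAs (IsAlgClosed Ω)), ⟨Over.homMk a rfl, ?_⟩, ?_⟩
  · exact ((J S).uliftYonedaEquiv.symm_apply_apply _).symm
  · change E.obj.left.left.fromSpecResidueField v (Spec.map _ _) = v
    exact Scheme.fromSpecResidueField_apply _ _

end Groth.Agent.AlgSpEt
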