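import Groth.Agent.Lib.AlgSpEt.Lifts
import Mathlib.CategoryTheory.Sites.Point.Skyscraper
import Mathlib.Algebra.Category.Grp.AB

/-!
# Geometric points are points of the small étale site
-/

universe u

set_option backward.isDefEq.respectTransparency false

open CategoryTheory CategoryTheory.Limits AlgebraicGeometry Opposite

namespace Groth.Agent.AlgSpEt

open AlgSp Groth.Agent.AlgSpace

variable {S : Scheme.{u}} {X : Sp S}

instance ab5OfSize_type_succ : AB5OfSize.{u, u} (Type (u + 1)) :=
  AB5OfSize_of_univLE.{u, u, u + 1, u + 1} (Type (u + 1))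

instance ab5OfSize_addCommGrp_succ : AB5OfSize.{u, u} AddCommGrpCat.{u + 1} :=
  AB5OfSize_of_univLE.{u, u, u + 1, u + 1} AddCommGrpCat.{u + 1}

theorem initiallySmall_etNbhd (hX : IsAlgSpace X) (p : FieldPt X) (hp : p.IsGeometric) :
    InitiallySmall.{u} (EtNbhd p) := by
  have := isCofiltered_etNbhd hX p hp
  obtain ⟨E₀, ⟨l₀⟩⟩ := exists_chart_lift hX p hp
  let G : E₀.obj.left.left.AffineEtale ⥤ EtOver X :=
    Scheme.AffineEtale.Spec _ ⋙ EtOver.ofChart E₀.obj.hom E₀.property
  refine initiallySmall_of_essentiallySmall_weakly_initial_objectProperty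
    (Functor.Elements.precomp G (FieldPt.liftsTo p)).essImage ?_
  rintro ⟨E, l⟩
  obtain ⟨l₁, h₀, h₁⟩ := exists_lift_prod p l₀ l
  let P := EtOver.prodObj E₀ E
  obtain ⟨R, j, _, hj, -⟩ := Scheme.exists_affine_mem_range_and_range_subset
    (X := P.obj.left.left) (x := liftPt p l₁) (U := ⊤) trivial
  let q := EtOver.prodFst E₀ E
  have : Etale q.hom.left.left := EtOver.etale_left q
  let A : E₀.obj.left.left.AffineEtale := Scheme.AffineEtale.mk (j ≫ q.hom.left.left)
  let m : (G.obj A).obj.left ⟶ P.obj.left := Over.homMk j (by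
    change j ≫ P.obj.left.hom = (j ≫ q.hom.left.left) ≫ E₀.obj.left.hom
    rw [Category.assoc, Over.w q.hom.left])
  let g : G.obj A ⟶ P := EtOver.homMk m (by
    change (yon S).map m ≫ P.obj.hom = (yon S).map _ ≫ E₀.obj.hom
    rw [← EtOver.w q, ← Functor.map_comp_assoc]
    congr 2)
  obtain ⟨v, hv⟩ := hj
  obtain ⟨l₂, hl₂, -⟩ := exists_lift_map p hp g l₁ v hv
  exact ⟨_, ⟨Functor.elementsMk _ A l₂, ⟨Iso.refl _⟩⟩,
    ⟨⟨g ≫ EtOver.prodSnd E₀ E, by rw [Functor.map_comp]; exact (congrArg _ hl₂).trans h₁⟩⟩⟩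

theorem exists_mem_of_cover (p : FieldPt X) (hp : p.IsGeometric) {E : EtOver X} (R : Sieve E)
    (h : R ∈ etTop X E) (l : (FieldPt.liftsTo p).obj E) :
    ∃ (Y : EtOver X) (f : Y ⟶ E) (_ : R f) (y : (FieldPt.liftsTo p).obj Y),
      (FieldPt.liftsTo p).map f y = l := by
  obtain ⟨R', hR', hle⟩ := (Precoverage.mem_toGrothendieck_iff_of_isStableUnderComposition).1 h
  obtain ⟨ι, Z, f, rfl⟩ := R'.exists_eq_ofArrows
  obtain ⟨i, y, hy⟩ := exists_lift_of_cover p hp l Z f hR'
  exact ⟨_, f i, hle _ _ (Presieve.ofArrows.mk i), y, hy⟩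

/-- The point of the small étale site given by a geometric point. -/
noncomputable def etPoint (hX : IsAlgSpace X) (p : FieldPt X) (hp : p.IsGeometric) :
    GrothendieckTopology.Point.{u} (etTop X) where
  fiber := FieldPt.liftsTo p
  isCofiltered := isCofiltered_etNbhd hX p hp
  initiallySmall := initiallySmall_etNbhd hX p hp
  jointly_surjective R h l := exists_mem_of_cover p hp R h l

section Exact

variable (hX : IsAlgSpace X) (p : FieldPt X) (hp : p.IsGeometric)
include hX hp

theorem preservesFiniteLimits_stalk_type :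
    PreservesFiniteLimits (stalkEtFunctor (Type (u + 1)) p) :=
  inferInstanceAs (PreservesFiniteLimits ((etPoint hX p hp).sheafFiber (A := Type (u + 1))))

theorem preservesFiniteColimits_stalk_type :
    PreservesFiniteColimits (stalkEtFunctor (Type (u + 1)) p) :=
  inferInstanceAs (PreservesFiniteColimits ((etPoint hX p hp).sheafFiber (A := Type (u + 1))))

theorem preservesFiniteLimits_stalk_ab :
    PreservesFiniteLimits (stalkEtFunctor AddCommGrpCat.{u + 1} p) :=
  inferInstanceAs (PreservesFiniteLimits ((etPoint hX p hp).sheafFiber (A := AddCommGrpCat.{u + 1})))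

theorem preservesFiniteColimits_stalk_ab :
    PreservesFiniteColimits (stalkEtFunctor AddCommGrpCat.{u + 1} p) :=
  inferInstanceAs (PreservesFiniteColimits ((etPoint hX p hp).sheafFiber (A := AddCommGrpCat.{u + 1})))

theorem preservesFiniteLimits_stalkPsh_ab :
    PreservesFiniteLimits (stalkEtPshFunctor AddCommGrpCat.{u + 1} p) :=
  inferInstanceAs (PreservesFiniteLimits ((etPoint hX p hp).presheafFiber (A := AddCommGrpCat.{u + 1})))

theorem preservesFiniteColimits_stalkPsh_ab :
    PreservesFiniteColimits (stalkEtPshFunctor AddCommGrpCat.{u + 1} p) :=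
  have : PreservesColimitsOfSize.{u, u}
      ((etPoint hX p hp).presheafFiber (A := AddCommGrpCat.{u + 1})) := inferInstance
  PreservesColimitsOfSize.preservesFiniteColimits
    ((etPoint hX p hp).presheafFiber (A := AddCommGrpCat.{u + 1}))

theorem isIso_stalk_toSheafify (P : (EtOver X)ᵒᵖ ⥤ Type (u + 1)) :
    IsIso ((stalkEtPshFunctor (Type (u + 1)) p).map (toSheafify (etTop X) P)) :=
  inferInstanceAs (IsIso ((etPoint hX p hp).presheafFiber.map (toSheafify (etTop X) P)))

end Exact

end Groth.Agent.AlgSpEt
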