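import Groth.Agent.Lib.AlgSpEt.Point
import Mathlib.Algebra.Category.Grp.FilteredColimits
import Mathlib.Algebra.Category.Ring.FilteredColimits
import Mathlib.Algebra.Homology.ShortComplex.Ab
import Mathlib.Algebra.Homology.ShortComplex.ExactFunctor

/-!
# Sections of sheaves detected on geometric stalks
-/

universe v' u' u

set_option backward.isDefEq.respectTransparency false

open CategoryTheory CategoryTheory.Limits AlgebraicGeometry Opposite

namespace Groth.Agent.AlgSpEt

open AlgSp Groth.Agent.AlgSpace Groth.Agent.AlgSpDecent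

variable {S : Scheme.{u}} {X : Sp S}

instance forgetAddCommGrp_preservesFiltered :
    PreservesFilteredColimitsOfSize.{u, u} (forget AddCommGrpCat.{u + 1}) :=
  preservesFilteredColimitsOfSize_shrink.{u, u + 1, u, u + 1} _

instance forgetCommRing_preservesFiltered :
    PreservesFilteredColimitsOfSize.{u, u} (forget CommRingCat.{u + 1}) :=
  preservesFilteredColimitsOfSize_shrink.{u, u + 1, u, u + 1} _

instance commRing_hasColimitsOfSize : HasColimitsOfSize.{u, u} CommRingCat.{u + 1} :=
  hasColimitsOfSizeShrink.{u, u, u + 1, u + 1} _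

/-- A sieve through which every geometric lift factors is covering. -/
theorem mem_etTop_of_lifts {E : EtOver X} (R : Sieve E)
    (h : ∀ (p : FieldPt X) (_ : p.IsGeometric) (l : (FieldPt.liftsTo p).obj E),
      ∃ (Y : EtOver X) (f : Y ⟶ E) (_ : R f) (y : (FieldPt.liftsTo p).obj Y),
        (FieldPt.liftsTo p).map f y = l) : R ∈ etTop X E := by
  have key : ∀ v : ↥E.obj.left.left, ∃ (Y : EtOver X) (f : Y ⟶ E) (_ : R f),
      v ∈ Set.range f.hom.left.left := fun v => by
    obtain ⟨p, hp, l, rfl⟩ := exists_geometric_lift E v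
    obtain ⟨Y, f, hf, y, rfl⟩ := h p hp l
    exact ⟨Y, f, hf, liftPt p y, (liftPt_map p f y).symm⟩
  choose Y f hf hv using key
  refine (etTop X).superset_covering ?_ (ofArrows_mem_etTop Y f fun v => ⟨v, hv v⟩)
  exact (Sieve.generate_le_iff _ _).2 fun _ _ ⟨v⟩ => hf v

section Concrete

variable {A : Type u'} [Category.{v'} A] {FC : A → A → Type*} {CC : A → Type (u + 1)}
  [∀ (M N : A), FunLike (FC M N) (CC M) (CC N)] [ConcreteCategory.{u + 1} A FC]
  [(etTop X).HasSheafCompose (forget A)]

theorem section_ext (F : EtSh X A) {E : EtOver X} (R : Sieve E) (hR : R ∈ etTop X E)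
    {s t : ToType (F.obj.obj (op E))}
    (h : ∀ ⦃Y : EtOver X⦄ (f : Y ⟶ E), R f → F.obj.map f.op s = F.obj.map f.op t) : s = t :=
  ((isSheaf_iff_isSheaf_of_type _ _).1
    ((sheafCompose (etTop X) (forget A)).obj F).property).isSeparated R hR |>.ext h

variable [HasColimitsOfSize.{u, u} A] [PreservesFilteredColimitsOfSize.{u, u} (forget A)]

/-- Equality in a stalk at a geometric point. -/
theorem stalkEtι_eq_iff (hX : IsAlgSpace X) (p : FieldPt X) (hp : p.IsGeometric)
    [HasColimitsOfShape (EtNbhd p)ᵒᵖ A] (F : EtSh X A) (N : EtNbhd p)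
    (s t : ToType (F.obj.obj (op N.1))) :
    stalkEtι p F N s = stalkEtι p F N t ↔
      ∃ (Y : EtOver X) (f : Y ⟶ N.1) (y : (FieldPt.liftsTo p).obj Y),
        (FieldPt.liftsTo p).map f y = N.2 ∧ F.obj.map f.op s = F.obj.map f.op t :=
  GrothendieckTopology.Point.toPresheafFiber_eq_iff' (etPoint hX p hp) (P := F.obj) N.1 N.2 s t

/-- Every element of a stalk at a geometric point comes from a neighbourhood. -/
theorem exists_stalkEtι_eq (hX : IsAlgSpace X) (p : FieldPt X) (hp : p.IsGeometric)
    [HasColimitsOfShape (EtNbhd p)ᵒᵖ A] (F : EtSh X A) (z : ToType (stalkEt p F)) :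
    ∃ (N : EtNbhd p) (s : ToType (F.obj.obj (op N.1))), stalkEtι p F N s = z := by
  obtain ⟨E, l, s, hs⟩ :=
    GrothendieckTopology.Point.toPresheafFiber_jointly_surjective (etPoint hX p hp) (P := F.obj) z
  exact ⟨⟨E, l⟩, s, hs⟩

/-- Sections with equal germs at all geometric points are equal. -/
theorem section_ext_of_stalks (hX : IsAlgSpace X) [∀ p : FieldPt X, HasColimitsOfShape (EtNbhd p)ᵒᵖ A]
    (F : EtSh X A) {E : EtOver X} {s t : ToType (F.obj.obj (op E))}
    (h : ∀ (p : FieldPt X) (_ : p.IsGeometric) (l : (FieldPt.liftsTo p).obj E),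
      stalkEtι p F ⟨E, l⟩ s = stalkEtι p F ⟨E, l⟩ t) : s = t := by
  let R : Sieve E :=
    { arrows := fun Y f => F.obj.map f.op s = F.obj.map f.op t
      downward_closed := fun {Y Z f} hf g => by
        rw [op_comp, Functor.map_comp, ConcreteCategory.comp_apply, ConcreteCategory.comp_apply, hf] }
  refine section_ext F R (mem_etTop_of_lifts R fun p hp l => ?_) fun Y f hf => hf
  obtain ⟨Y, f, y, hy, hst⟩ := (stalkEtι_eq_iff hX p hp F ⟨E, l⟩ s t).1 (h p hp l)
  exact ⟨Y, f, hst, y, hy⟩

end Concrete

/-- Monomorphisms of sheaves of sets are detected on geometric stalks. -/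
theorem mono_iff_stalk (hX : IsAlgSpace X) {F G : EtSh X (Type (u + 1))} (a : F ⟶ G) :
    Mono a ↔ ∀ p : FieldPt X, p.IsGeometric →
      Function.Injective ((stalkEtFunctor (Type (u + 1)) p).map a) := by
  constructor
  · intro _ p hp
    have := preservesFiniteLimits_stalk_type hX p hp
    exact (mono_iff_injective _).1 inferInstance
  · intro h
    refine (Sheaf.Hom.mono_iff_presheaf_mono (etTop X) _ a).2 ?_
    refine (NatTrans.mono_iff_mono_app a.hom).2 fun E => (mono_iff_injective _).2 fun s t hst => ?_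
    refine section_ext_of_stalks hX F fun p hp l => h p hp ?_
    have e := GrothendieckTopology.Point.toPresheafFiber_naturality (etPoint hX p hp) a.hom E.unop l
    exact (ConcreteCategory.congr_hom e s).trans ((congrArg _ hst).trans (ConcreteCategory.congr_hom e t).symm)

/-- Epimorphisms of sheaves of sets are detected on geometric stalks. -/
theorem epi_iff_stalk (hX : IsAlgSpace X) {F G : EtSh X (Type (u + 1))} (a : F ⟶ G) :
    Epi a ↔ ∀ p : FieldPt X, p.IsGeometric →
      Function.Surjective ((stalkEtFunctor (Type (u + 1)) p).map a) := by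
  constructor
  · intro _ p hp
    have := preservesFiniteColimits_stalk_type hX p hp
    exact (epi_iff_surjective _).1 inferInstance
  · intro h
    rw [← Sheaf.isLocallySurjective_iff_epi]
    refine ⟨fun {E} s => mem_etTop_of_lifts _ fun p hp l => ?_⟩
    obtain ⟨z, hz⟩ := h p hp (stalkEtι p G ⟨E, l⟩ s)
    obtain ⟨N, t, rfl⟩ := exists_stalkEtι_eq hX p hp F z
    have e := GrothendieckTopology.Point.toPresheafFiber_naturality (etPoint hX p hp) a.hom N.1 N.2
    replace hz : stalkEtι p G N (a.hom.app _ t) = stalkEtι p G ⟨E, l⟩ s :=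
      (ConcreteCategory.congr_hom e t).symm.trans hz
    have := isCofiltered_etNbhd hX p hp
    obtain ⟨M, α, β, -⟩ := IsCofilteredOrEmpty.cone_objs N ⟨E, l⟩
    replace hz : stalkEtι p G M (G.obj.map α.1.op (a.hom.app _ t)) =
        stalkEtι p G M (G.obj.map β.1.op s) :=
      (ConcreteCategory.congr_hom (colimit.w (stalkEtDiagram p G) α.op) (a.hom.app _ t)).trans
        (hz.trans (ConcreteCategory.congr_hom (colimit.w (stalkEtDiagram p G) β.op) s).symm)
    obtain ⟨Y, f, y, hy, he⟩ := (stalkEtι_eq_iff hX p hp G M _ _).1 hz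
    refine ⟨Y, f ≫ β.1, ⟨F.obj.map (α.1.op ≫ f.op) t, ?_⟩, y, ?_⟩
    · rw [NatTrans.naturality_apply, op_comp, Functor.map_comp, Functor.map_comp,
        ConcreteCategory.comp_apply, ConcreteCategory.comp_apply]
      exact he
    · rw [Functor.map_comp, ConcreteCategory.comp_apply, hy]
      exact β.2

/-- An abelian sheaf with vanishing geometric stalks is zero. -/
theorem isZero_of_stalks (hX : IsAlgSpace X) (F : AbEt X)
    (h : ∀ p : FieldPt X, p.IsGeometric → IsZero (stalkEt p F)) : IsZero F := by
  rw [IsZero.iff_id_eq_zero]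
  ext E s
  refine section_ext_of_stalks hX F fun p hp l => ?_
  have := AddCommGrpCat.subsingleton_of_isZero (h p hp)
  exact Subsingleton.elim _ _

/-- Exactness of abelian sheaves is detected on geometric stalks. -/
theorem exact_iff_stalk (hX : IsAlgSpace X) (C : ShortComplex (AbEt X)) :
    C.Exact ↔ ∀ p : FieldPt X, p.IsGeometric →
      ∀ y : ↥((stalkEtFunctor AddCommGrpCat.{u + 1} p).obj C.X₂),
        ((stalkEtFunctor AddCommGrpCat.{u + 1} p).map C.g) y = 0 →
          ∃ x : ↥((stalkEtFunctor AddCommGrpCat.{u + 1} p).obj C.X₁),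
            ((stalkEtFunctor AddCommGrpCat.{u + 1} p).map C.f) x = y := by
  have inst : ∀ p : FieldPt X, p.IsGeometric →
      PreservesFiniteLimits (stalkEtFunctor AddCommGrpCat.{u + 1} p) ∧
        PreservesFiniteColimits (stalkEtFunctor AddCommGrpCat.{u + 1} p) :=
    fun p hp => ⟨preservesFiniteLimits_stalk_ab hX p hp, preservesFiniteColimits_stalk_ab hX p hp⟩
  have hadd : ∀ p : FieldPt X, p.IsGeometric →
      (stalkEtFunctor AddCommGrpCat.{u + 1} p).Additive := fun p hp => by
    obtain ⟨_, _⟩ := inst p hp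
    exact Functor.additive_of_preserves_binary_products _
  constructor
  · intro hC p hp y hy
    obtain ⟨_, _⟩ := inst p hp
    have := hadd p hp
    exact (ShortComplex.ab_exact_iff _).1 (hC.map (stalkEtFunctor AddCommGrpCat.{u + 1} p)) y hy
  · intro h
    rw [ShortComplex.exact_iff_isZero_homology]
    refine isZero_of_stalks hX _ fun p hp => ?_
    obtain ⟨_, _⟩ := inst p hp
    have := hadd p hp
    exact IsZero.of_iso ((ShortComplex.exact_iff_isZero_homology _).1
      ((ShortComplex.ab_exact_iff (C.map (stalkEtFunctor AddCommGrpCat.{u + 1} p))).2 (h p hp)))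
        (C.mapHomologyIso (stalkEtFunctor AddCommGrpCat.{u + 1} p)).symm

end Groth.Agent.AlgSpEt
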