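import Groth.Agent.Lib.AlgSpEt.Sections

/-!
# Supports of sheaves on the small étale site
-/

universe u

set_option backward.isDefEq.respectTransparency false

open CategoryTheory CategoryTheory.Limits AlgebraicGeometry Opposite

namespace Groth.Agent.AlgSpEt

open AlgSp Groth.Agent.AlgSpace Groth.Agent.AlgSpDecent

variable {S : Scheme.{u}} {X : Sp S}

/-- Germs at a geometric point vanish when the section dies on a neighbourhood of the point. -/
theorem stalkEtι_eq_zero_iff (hX : IsAlgSpace X) (p : FieldPt X) (hp : p.IsGeometric) (F : AbEt X)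
    (N : EtNbhd p) (σ : ↥(F.obj.obj (op N.1))) :
    (stalkEtι p F N).hom σ = 0 ↔
      ∃ (V : EtOver X) (φ : V ⟶ N.1),
        (F.obj.map φ.op).hom σ = 0 ∧ liftPt p N.2 ∈ Set.range φ.hom.left.left := by
  constructor
  · intro h
    obtain ⟨V, φ, y, hy, he⟩ := (stalkEtι_eq_iff hX p hp F N σ 0).1 (h.trans (map_zero _).symm)
    exact ⟨V, φ, he.trans (map_zero _), liftPt p y, by rw [← hy, liftPt_map]⟩
  · rintro ⟨V, φ, hφ, v, hv⟩
    obtain ⟨l, hl, -⟩ := exists_lift_map p hp φ N.2 v hv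
    exact ((stalkEtι_eq_iff hX p hp F N σ 0).2 ⟨V, φ, l, hl, hφ.trans (map_zero _).symm⟩).trans
      (map_zero _)

/-- The largest open on which a section vanishes. -/
theorem exists_zero_open (hX : IsAlgSpace X) (F : AbEt X) (U : EtOver X)
    (σ : ↥(F.obj.obj (op U))) :
    ∃ W : TopologicalSpace.Opens ↥U.obj.left.left,
      (∀ (V : EtOver X) (φ : V ⟶ U),
          (F.obj.map φ.op).hom σ = 0 ↔
            Set.range (fun v => φ.hom.left.left v) ⊆ (W : Set ↥U.obj.left.left)) ∧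
      (∀ p : FieldPt X, p.IsGeometric → ∀ l : (FieldPt.liftsTo p).obj U,
          (stalkEtι p F ⟨U, l⟩).hom σ = 0 ↔ l.1.left (IsLocalRing.closedPoint p.K) ∈ W) := by
  let W : Set ↥U.obj.left.left :=
    ⋃ (V : EtOver X) (φ : V ⟶ U) (_ : (F.obj.map φ.op).hom σ = 0), Set.range φ.hom.left.left
  have hmem : ∀ x, x ∈ W ↔ ∃ (V : EtOver X) (φ : V ⟶ U),
      (F.obj.map φ.op).hom σ = 0 ∧ x ∈ Set.range φ.hom.left.left := fun x => by
    simp only [W, Set.mem_iUnion, exists_prop]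
  have hW : IsOpen W := isOpen_iUnion fun V => isOpen_iUnion fun φ => isOpen_iUnion fun _ => by
    have : Etale φ.hom.left.left := EtOver.etale_left φ
    exact φ.hom.left.left.isOpenMap.isOpen_range
  refine ⟨⟨W, hW⟩, fun V φ => ⟨fun h => ?_, fun h => ?_⟩, fun p hp l => ?_⟩
  · rintro _ ⟨v, rfl⟩
    exact (hmem _).2 ⟨V, φ, h, v, rfl⟩
  · refine section_ext_of_stalks hX F fun p hp l => ?_
    obtain ⟨V', φ', h', hv'⟩ := (hmem _).1 (h ⟨liftPt p l, rfl⟩)
    have h0 := (stalkEtι_eq_zero_iff hX p hp F ⟨U, (FieldPt.liftsTo p).map φ l⟩ σ).2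
      ⟨V', φ', h', hv'⟩
    refine Eq.trans ?_ (map_zero _).symm
    exact (ConcreteCategory.congr_hom (colimit.w (stalkEtDiagram p F)
      (CategoryOfElements.homMk (F := FieldPt.liftsTo p) ⟨V, l⟩ ⟨U, (FieldPt.liftsTo p).map φ l⟩ φ
        rfl).op) σ).trans h0
  · exact (stalkEtι_eq_zero_iff hX p hp F ⟨U, l⟩ σ).trans (hmem _).symm

/-- The support in terms of sections. -/
theorem exists_not_isZero_iff_exists_section (hX : IsAlgSpace X) (F : AbEt X) (x : Points X) :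
    (∃ p : FieldPt X, p.IsGeometric ∧ Points.mk p = x ∧ ¬ IsZero (stalkEt p F)) ↔
      ∃ (U : EtOver X) (σ : ↥(F.obj.obj (op U))) (u : ↥U.obj.left.left),
        Points.ofPt U.obj.hom u = x ∧
          ∀ (V : EtOver X) (φ : V ⟶ U), (F.obj.map φ.op).hom σ = 0 →
            u ∉ Set.range (fun v => φ.hom.left.left v) := by
  constructor
  · rintro ⟨p, hp, rfl, hne⟩
    have : ∃ z : ↥(stalkEt p F), z ≠ 0 := by
      by_contra! h
      have : Subsingleton ↥(stalkEt p F) := ⟨fun a b => (h a).trans (h b).symm⟩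
      exact hne (AddCommGrpCat.isZero_of_subsingleton _)
    obtain ⟨z, hz⟩ := this
    obtain ⟨⟨U, l⟩, σ, rfl⟩ := exists_stalkEtι_eq hX p hp F z
    exact ⟨U, σ, liftPt p l, ofPt_liftPt p l, fun V φ h hu =>
      hz ((stalkEtι_eq_zero_iff hX p hp F ⟨U, l⟩ σ).2 ⟨V, φ, h, hu⟩)⟩
  · rintro ⟨U, σ, u, rfl, hu⟩
    obtain ⟨p, hp, l, rfl⟩ := exists_geometric_lift U u
    refine ⟨p, hp, (ofPt_liftPt p l).symm, fun h0 => ?_⟩
    have := AddCommGrpCat.subsingleton_of_isZero h0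
    obtain ⟨V, φ, hφ, hv⟩ := (stalkEtι_eq_zero_iff hX p hp F ⟨U, l⟩ σ).1 (Subsingleton.elim _ _)
    exact hu V φ hφ hv

/-- The support of a sheaf of rings is closed. -/
theorem isClosed_support_ring (hX : IsAlgSpace X) (O' : EtSh X CommRingCat.{u + 1}) :
    IsClosed {x : Points X |
      ∃ p : FieldPt X, p.IsGeometric ∧ Points.mk p = x ∧ Nontrivial ↥(stalkEt p O')} := by
  rw [← isOpen_compl_iff, isOpen_iff_forall_mem_open]
  intro x hx
  obtain ⟨U₀, a, hae, has⟩ := hX.atlas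
  obtain ⟨u₀, hu₀⟩ := surjective_ofPt has x
  obtain ⟨p, hp, l, hl⟩ := exists_geometric_lift (EtOver.mk a hae) u₀
  have hpx : Points.mk p = x := by rw [← ofPt_liftPt p l, hl]; exact hu₀
  have : Subsingleton ↥(stalkEt p O') :=
    not_nontrivial_iff_subsingleton.1 fun h => hx ⟨p, hp, hpx, h⟩
  obtain ⟨V, φ, y, hy, he⟩ :=
    (stalkEtι_eq_iff hX p hp O' ⟨EtOver.mk a hae, l⟩ 1 0).1 (Subsingleton.elim _ _)
  have h10 : (1 : ↥(O'.obj.obj (op V))) = 0 :=
    (map_one (O'.obj.map φ.op).hom).symm.trans (he.trans (map_zero _))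
  refine ⟨Set.range (Points.ofPt V.obj.hom), ?_,
    (isOpenMap_ofPt V.obj.hom V.property).isOpen_range, ⟨liftPt p y, (ofPt_liftPt p y).trans hpx⟩⟩
  rintro _ ⟨v, rfl⟩ ⟨q, hq, hqv, hnt⟩
  obtain ⟨m, -⟩ := exists_lift_of_point q hq V v hqv.symm
  have : (1 : ↥(stalkEt q O')) = 0 := by
    rw [← map_one (stalkEtι q O' ⟨V, m⟩).hom, ← map_zero (stalkEtι q O' ⟨V, m⟩).hom]
    exact congrArg _ h10
  exact one_ne_zero this

/-- Supports along epimorphisms and monomorphisms. -/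
theorem support_of_epi_mono (hX : IsAlgSpace X) {F G : AbEt X} (a : F ⟶ G) (x : Points X) :
    (Epi a → (∃ p : FieldPt X, p.IsGeometric ∧ Points.mk p = x ∧ ¬ IsZero (stalkEt p G)) →
        ∃ p : FieldPt X, p.IsGeometric ∧ Points.mk p = x ∧ ¬ IsZero (stalkEt p F)) ∧
    (Mono a → (∃ p : FieldPt X, p.IsGeometric ∧ Points.mk p = x ∧ ¬ IsZero (stalkEt p F)) →
        ∃ p : FieldPt X, p.IsGeometric ∧ Points.mk p = x ∧ ¬ IsZero (stalkEt p G)) := by
  constructor
  · rintro _ ⟨p, hp, hx, hne⟩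
    have := preservesFiniteColimits_stalk_ab hX p hp
    exact ⟨p, hp, hx, fun h => hne (IsZero.of_epi ((stalkEtFunctor AddCommGrpCat.{u + 1} p).map a) h)⟩
  · rintro _ ⟨p, hp, hx, hne⟩
    have := preservesFiniteLimits_stalk_ab hX p hp
    exact ⟨p, hp, hx, fun h => hne (IsZero.of_mono ((stalkEtFunctor AddCommGrpCat.{u + 1} p).map a) h)⟩

end Groth.Agent.AlgSpEt
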